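import Mathlib.LinearAlgebra.Matrix.Determinant.Basic
import Mathlib.GroupTheory.Perm.Cycle.Type
import Mathlib.RingTheory.Ideal.Quotient.Basic

/-!
# The determinant of an alternating matrix of odd size vanishes when `2 = 0`
-/

set_option autoImplicit false
universe u

namespace K892.AltDet

theorem det_eq_zero {R : Type u} [CommRing R] (h2 : (2 : R) = 0) {n : ℕ} (hn : Odd n)
    (M : Matrix (Fin n) (Fin n) R) (hsymm : ∀ i j, M i j = M j i) (hdiag : ∀ i, M i i = 0) :
    M.det = 0 := by
  rw [Matrix.det_apply]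
  have hneg : ∀ x : R, -x = x := by
    intro x
    have : x + x = 0 := by rw [← two_mul, h2, zero_mul]
    exact neg_eq_of_add_eq_zero_left this
  have hsign : ∀ (σ : Equiv.Perm (Fin n)) (x : R), Equiv.Perm.sign σ • x = x := by
    intro σ x
    rcases Int.units_eq_one_or (Equiv.Perm.sign σ) with h | h
    · rw [h, one_smul]
    · rw [h, Units.neg_smul, one_smul, hneg]
  simp only [hsign]
  have hinv : ∀ σ : Equiv.Perm (Fin n), ∏ i, M (σ⁻¹ i) i = ∏ i, M (σ i) i := by
    intro σ
    rw [← Equiv.prod_comp σ (fun i => M (σ⁻¹ i) i)]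
    refine Finset.prod_congr rfl (fun i _ => ?_)
    have : σ⁻¹ (σ i) = i := by simp
    rw [this, hsymm]
  refine Finset.sum_involution (fun σ _ => σ⁻¹) ?_ ?_ (fun _ _ => Finset.mem_univ _) ?_
  · intro σ _
    rw [hinv, ← two_mul, h2, zero_mul]
  · intro σ _ hne heq
    apply hne
    have hσ : σ ^ 2 ^ 1 = 1 := by
      rw [pow_one, pow_two]
      nth_rewrite 1 [← heq]
      exact inv_mul_cancel σ
    have : Fact (Nat.Prime 2) := ⟨Nat.prime_two⟩
    obtain ⟨a, ha⟩ := Equiv.Perm.exists_fixed_point_of_prime (p := 2) (n := 1) (σ := σ)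
      (by rw [Fintype.card_fin]; exact fun h => (Nat.not_even_iff_odd.2 hn) (even_iff_two_dvd.2 h)) hσ
    exact Finset.prod_eq_zero (Finset.mem_univ a) (by rw [ha, hdiag])
  · intro σ _
    exact inv_inv σ

theorem two_dvd_det {R : Type u} [CommRing R] {n : ℕ} (hn : Odd n)
    (M : Matrix (Fin n) (Fin n) R) (hsymm : ∀ i j, M i j = M j i) (hdiag : ∀ i, (2 : R) ∣ M i i) :
    (2 : R) ∣ M.det := by
  rw [← Ideal.mem_span_singleton, ← Ideal.Quotient.eq_zero_iff_mem, RingHom.map_det]
  apply det_eq_zero _ hn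
  · intro i j
    rw [RingHom.mapMatrix_apply, Matrix.map_apply, Matrix.map_apply, hsymm]
  · intro i
    rw [RingHom.mapMatrix_apply, Matrix.map_apply, Ideal.Quotient.eq_zero_iff_mem,
      Ideal.mem_span_singleton]
    exact hdiag i
  · have : (2 : R ⧸ Ideal.span {(2 : R)}) = Ideal.Quotient.mk (Ideal.span {(2 : R)}) 2 := by
      rw [map_ofNat]
    rw [this, Ideal.Quotient.eq_zero_iff_mem]
    exact Ideal.mem_span_singleton_self _

end K892.AltDet
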