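import Groth.Agent.QuadZ.K892.EvenBlocks
import Groth.Agent.QuadGrp.K916.BC
import Groth.Agent.QuadGrp.K916.SplitForm
import Groth.Agent.QuadGrp.K917.Semireg

/-!
# Structure of the Clifford algebra of a regular quadratic form of even rank, by faithfully flat descent
-/

set_option autoImplicit false

universe u v w u'

open CliffordAlgebra TensorProduct

namespace K892.Cliff

open K916 K916.Split K916.BC

attribute [local instance] MatCl.fin MatCl.dec

section General

variable {R : Type u} [CommRing R] {M : Type v} [AddCommGroup M] [Module R M] [Module.Free R M]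
  (A : Type u') [CommRing A] [Algebra R A] (Q : QuadraticForm R M)

theorem isBC : IsBC A Q (QuadGrp.baseChangeForm A Q) (TensorProduct.mk R A M 1) where
  isBaseChange := TensorProduct.isBaseChange R M A
  compat m := K917.Base.baseChangeForm_one_tmul A Q m

/-- the even part, base changed, inside the Clifford algebra of the base change. -/
noncomputable def evenHom : A ⊗[R] ↥(CliffordAlgebra.even Q) →ₐ[A] CliffordAlgebra (QuadGrp.baseChangeForm A Q) :=
  (equivBC (isBC A Q)).toAlgHom.comp (Algebra.TensorProduct.map (AlgHom.id A A) (CliffordAlgebra.even Q).val)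

theorem evenHom_tmul (a : A) (x : ↥(CliffordAlgebra.even Q)) :
    evenHom A Q (a ⊗ₜ x) = a • cmap (isBC A Q).compat x.1 := by
  change equivBC (isBC A Q) (a ⊗ₜ x.1) = _
  rw [equivBC_tmul]

theorem evenHom_injective [Module.Flat R A] : Function.Injective (evenHom A Q) := by
  refine (equivBC (isBC A Q)).injective.comp ?_
  have h := Module.Flat.lTensor_preserves_injective_linearMap (M := A) (CliffordAlgebra.even Q).val.toLinearMap
    Subtype.val_injective
  intro x y hxy
  apply h
  have e : ∀ z, LinearMap.lTensor A (CliffordAlgebra.even Q).val.toLinearMap z =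
      Algebra.TensorProduct.map (AlgHom.id A A) (CliffordAlgebra.even Q).val z := by
    intro z
    induction z with
    | zero => simp
    | tmul a b => rfl
    | add a b ha hb => rw [map_add, map_add, ha, hb]
  rw [e, e]
  exact hxy

theorem range_evenHom : (evenHom A Q).range = CliffordAlgebra.even (QuadGrp.baseChangeForm A Q) := by
  have h := evenOdd_eq_span (isBC A Q) 0
  apply le_antisymm
  · rintro _ ⟨z, rfl⟩
    change evenHom A Q z ∈ _
    induction z with
    | zero => rw [map_zero]; exact Subalgebra.zero_mem _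
    | tmul a x =>
      rw [evenHom_tmul]
      exact Subalgebra.smul_mem _ (cmap_mem_evenOdd (isBC A Q).compat 0 x.2) a
    | add x y hx hy => rw [map_add]; exact Subalgebra.add_mem _ hx hy
  · intro z hz
    change z ∈ evenOdd _ 0 at hz
    rw [h] at hz
    refine Submodule.span_induction (p := fun z _ => z ∈ (evenHom A Q).range) ?_ (Subalgebra.zero_mem _)
      (fun _ _ _ _ => Subalgebra.add_mem _) (fun a _ _ hx => Subalgebra.smul_mem _ hx a) hz
    rintro _ ⟨x, hx, rfl⟩
    exact ⟨1 ⊗ₜ ⟨x, hx⟩, by
      change evenHom A Q _ = _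
      rw [evenHom_tmul, one_smul]⟩

/-- flat base change of the even part. -/
noncomputable def evenBC [Module.Flat R A] : A ⊗[R] ↥(CliffordAlgebra.even Q) ≃ₐ[A]
    ↥(CliffordAlgebra.even (QuadGrp.baseChangeForm A Q)) :=
  (AlgEquiv.ofInjective (evenHom A Q) (evenHom_injective A Q)).trans
    (Subalgebra.equivOfEq _ _ (range_evenHom A Q))

theorem evenBC_tmul [Module.Flat R A] (a : A) (x : ↥(CliffordAlgebra.even Q)) :
    (evenBC A Q (a ⊗ₜ x)).1 = a • cmap (isBC A Q).compat x.1 := evenHom_tmul A Q a x

/-- the map on even parts -/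
noncomputable def evenMap : ↥(CliffordAlgebra.even Q) →ₗ[R] ↥(CliffordAlgebra.even (QuadGrp.baseChangeForm A Q)) where
  toFun x := ⟨cmap (isBC A Q).compat x.1, cmap_mem_evenOdd (isBC A Q).compat 0 x.2⟩
  map_add' x y := by
    apply Subtype.ext
    exact map_add _ _ _
  map_smul' r x := by
    apply Subtype.ext
    exact map_smul _ _ _

theorem isBaseChange_evenMap [Module.Flat R A] : IsBaseChange A (evenMap A Q) :=
  IsBaseChange.of_equiv (evenBC A Q).toLinearEquiv fun x => by
    apply Subtype.ext
    change (evenBC A Q (1 ⊗ₜ x)).1 = cmap (isBC A Q).compat x.1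
    rw [evenBC_tmul, one_smul]

end General

section Regular

variable {R : Type u} [CommRing R] {M : Type v} [AddCommGroup M] [Module R M] [Module.Free R M] [Module.Finite R M]
  (Q : QuadraticForm R M)

theorem exists_matCl {m : ℕ} (b : Module.Basis (Fin (2 * m)) R M) (hQ : Function.Bijective (QuadraticMap.polarBilin Q)) :
    ∃ (A : Type u) (_ : CommRing A) (_ : Algebra R A), Module.FaithfullyFlat R A ∧ Algebra.FinitePresentation R A ∧
      Nonempty (MatCl (QuadGrp.baseChangeForm A Q) m) := by
  obtain ⟨A, _, _, hff, hfp, c, hc⟩ := K917.Cover.exists_split b Q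
    ⟨fun _ => hQ, fun h => absurd h (by simp)⟩
  exact ⟨A, inferInstance, inferInstance, hff, hfp,
    ⟨EvenBlocks.congr' (K916.SplitForm.matClSplit A m) hc.isometryEquiv.symm⟩⟩

/-- The matrix structure of the base changed Clifford algebra and of its even part. -/
theorem exists_cover {m : ℕ} (hm : m ≠ 0) (b : Module.Basis (Fin (2 * m)) R M)
    (hQ : Function.Bijective (QuadraticMap.polarBilin Q)) :
    ∃ (A : Type u) (_ : CommRing A) (_ : Algebra R A), Module.FaithfullyFlat R A ∧ Algebra.FinitePresentation R A ∧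
      Nonempty ((A ⊗[R] CliffordAlgebra Q) ≃ₐ[A] Matrix (Fin (2 ^ m)) (Fin (2 ^ m)) A) ∧
      Nonempty ((A ⊗[R] ↥(CliffordAlgebra.even Q)) ≃ₐ[A]
          (Matrix (Fin (2 ^ (m - 1))) (Fin (2 ^ (m - 1))) A × Matrix (Fin (2 ^ (m - 1))) (Fin (2 ^ (m - 1))) A)) := by
  obtain ⟨A, _, _, hff, hfp, ⟨E⟩⟩ := exists_matCl Q b hQ
  exact ⟨A, inferInstance, inferInstance, hff, hfp, ⟨(equivBC (isBC A Q)).trans (EvenBlocks.allEquiv E)⟩,
    ⟨(evenBC A Q).trans (EvenBlocks.evenEquiv E hm)⟩⟩

theorem center_eq_bot {m : ℕ} (b : Module.Basis (Fin (2 * m)) R M)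
    (hQ : Function.Bijective (QuadraticMap.polarBilin Q)) : Subalgebra.center R (CliffordAlgebra Q) = ⊥ := by
  obtain ⟨A, _, _, hff, hfp, ⟨E⟩⟩ := exists_matCl Q b hQ
  rw [eq_bot_iff]
  intro z hz
  rw [Subalgebra.mem_center_iff] at hz
  have hbc := isBaseChange_cmap (isBC A Q)
  have h1 : ∀ y : CliffordAlgebra (QuadGrp.baseChangeForm A Q),
      cmap (isBC A Q).compat z * y = y * cmap (isBC A Q).compat z := by
    intro y
    induction y using hbc.inductionOn with
    | zero => simp
    | tmul x =>
      change cmap (isBC A Q).compat z * cmap (isBC A Q).compat x = cmap (isBC A Q).compat x * cmap (isBC A Q).compat z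
      rw [← map_mul, ← map_mul, hz x]
    | smul a y hy => rw [mul_smul_comm, smul_mul_assoc, hy]
    | add y y' hy hy' => rw [mul_add, add_mul, hy, hy']
  obtain ⟨a, ha⟩ := K916.Center.mem_range_of_forall_commute E h1
  have h2 := K916.Desc.mem_of_mem_span A hbc (P := (1 : Submodule R (CliffordAlgebra Q))) (x := z) (by
    change cmap (isBC A Q).compat z ∈ _
    rw [ha, Algebra.algebraMap_eq_smul_one]
    refine Submodule.smul_mem _ a (Submodule.subset_span ⟨1, Submodule.one_le.1 le_rfl, ?_⟩)
    exact map_one (cmap (isBC A Q).compat))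
  rw [Submodule.mem_one] at h2
  exact h2

omit [Module.Free R M] in
theorem finite_even [Module.Free R M] : Module.Finite R ↥(CliffordAlgebra.even Q) := by
  have := K916.Basic.module_finite Q
  have h := evenOdd_isCompl Q
  exact Module.Finite.of_surjective (Submodule.projectionOnto _ _ h)
    (Submodule.projectionOnto_surjective h)

theorem centralizer_center_even {m : ℕ} (b : Module.Basis (Fin (2 * m)) R M)
    (hQ : Function.Bijective (QuadraticMap.polarBilin Q)) :
    Subalgebra.centralizer R
        ((CliffordAlgebra.even Q).val '' (Subalgebra.center R ↥(CliffordAlgebra.even Q) : Set ↥(CliffordAlgebra.even Q))) =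
      CliffordAlgebra.even Q := by
  obtain ⟨A, _, _, hff, hfp, ⟨E⟩⟩ := exists_matCl Q b hQ
  have hfin := finite_even Q
  obtain ⟨S, hS⟩ := hfin.fg_top
  apply le_antisymm
  · intro x hx
    rw [Subalgebra.mem_centralizer_iff] at hx
    have hbc := isBaseChange_cmap (isBC A Q)
    have hbe := isBaseChange_evenMap A Q
    let g : S → ↥(CliffordAlgebra.even Q) →ₗ[R] CliffordAlgebra Q := fun y =>
      LinearMap.mulRight R (y.1 : CliffordAlgebra Q) ∘ₗ (CliffordAlgebra.even Q).val.toLinearMap -
        LinearMap.mulLeft R (y.1 : CliffordAlgebra Q) ∘ₗ (CliffordAlgebra.even Q).val.toLinearMap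
    let g' : S → ↥(CliffordAlgebra.even (QuadGrp.baseChangeForm A Q)) →ₗ[A]
        CliffordAlgebra (QuadGrp.baseChangeForm A Q) := fun y =>
      LinearMap.mulRight A (cmap (isBC A Q).compat (y.1 : CliffordAlgebra Q)) ∘ₗ
          (CliffordAlgebra.even (QuadGrp.baseChangeForm A Q)).val.toLinearMap -
        LinearMap.mulLeft A (cmap (isBC A Q).compat (y.1 : CliffordAlgebra Q)) ∘ₗ
          (CliffordAlgebra.even (QuadGrp.baseChangeForm A Q)).val.toLinearMap
    have hker := K916.Desc.iInf_ker_eq_span A hbe hbc g g' (by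
      intro y x
      change cmap (isBC A Q).compat x.1 * cmap (isBC A Q).compat y.1 -
        cmap (isBC A Q).compat y.1 * cmap (isBC A Q).compat x.1 =
        cmap (isBC A Q).compat (x.1 * y.1 - y.1 * x.1)
      rw [map_sub, map_mul, map_mul])
    have hcen : ∀ z ∈ (⨅ i, LinearMap.ker (g i) : Submodule R ↥(CliffordAlgebra.even Q)),
        z.1 * x = x * z.1 := by
      intro z hz
      refine hx z.1 ⟨z, ?_, rfl⟩
      rw [SetLike.mem_coe, Subalgebra.mem_center_iff]
      intro y
      have hy : y ∈ Submodule.span R (S : Set ↥(CliffordAlgebra.even Q)) := by rw [hS]; trivial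
      refine Submodule.span_induction (p := fun y _ => y * z = z * y) ?_ (by simp) ?_ ?_ hy
      · intro y hy
        have h1 := (Submodule.mem_iInf _).1 hz ⟨y, hy⟩
        rw [LinearMap.mem_ker] at h1
        apply Subtype.ext
        exact (sub_eq_zero.1 h1).symm
      · intro a b _ _ ha hb
        rw [add_mul, mul_add, ha, hb]
      · intro r a _ ha
        rw [smul_mul_assoc, mul_smul_comm, ha]
    have heps : (⟨K916.Center.eps E, K916.Center.eps_mem E⟩ :
        ↥(CliffordAlgebra.even (QuadGrp.baseChangeForm A Q))) ∈ ⨅ i, LinearMap.ker (g' i) := by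
      rw [Submodule.mem_iInf]
      intro y
      rw [LinearMap.mem_ker]
      change K916.Center.eps E * cmap (isBC A Q).compat y.1.1 - cmap (isBC A Q).compat y.1.1 * K916.Center.eps E = 0
      rw [K916.Center.eps_comm E (cmap_mem_evenOdd (isBC A Q).compat 0 y.1.2), sub_self]
    rw [hker] at heps
    have hcomm : ∀ z ∈ Submodule.span A (evenMap A Q '' ((⨅ i, LinearMap.ker (g i) :
        Submodule R ↥(CliffordAlgebra.even Q)) : Set ↥(CliffordAlgebra.even Q))),
        cmap (isBC A Q).compat x * z.1 = z.1 * cmap (isBC A Q).compat x := by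
      intro z hz
      refine Submodule.span_induction (p := fun z _ => cmap (isBC A Q).compat x * z.1 =
        z.1 * cmap (isBC A Q).compat x) ?_ (by simp) ?_ ?_ hz
      · rintro _ ⟨z, hz, rfl⟩
        change cmap (isBC A Q).compat x * cmap (isBC A Q).compat z.1 =
          cmap (isBC A Q).compat z.1 * cmap (isBC A Q).compat x
        rw [← map_mul, ← map_mul, hcen z hz]
      · intro a b _ _ ha hb
        change cmap (isBC A Q).compat x * (a.1 + b.1) = (a.1 + b.1) * cmap (isBC A Q).compat x
        rw [add_mul, mul_add, ha, hb]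
      · intro r a _ ha
        change cmap (isBC A Q).compat x * (r • a.1) = (r • a.1) * cmap (isBC A Q).compat x
        rw [smul_mul_assoc, mul_smul_comm, ha]
    have h3 := K916.Center.mem_even_of_comm E (hcomm _ heps)
    rw [evenOdd_eq_span (isBC A Q) 0] at h3
    exact K916.Desc.mem_of_mem_span A hbc (P := evenOdd Q 0) h3
  · intro x hx
    rw [Subalgebra.mem_centralizer_iff]
    rintro _ ⟨z, hz, rfl⟩
    rw [SetLike.mem_coe, Subalgebra.mem_center_iff] at hz
    exact (congrArg Subtype.val (hz ⟨x, hx⟩)).symm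

end Regular

end K892.Cliff
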