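import Groth.Agent.QuadGrp.K916.Center

/-!
# The even part of a graded matrix Clifford algebra is a product of two matrix algebras
-/

set_option autoImplicit false

universe u v w u'

open CliffordAlgebra

namespace K892.EvenBlocks

open K916 K916.Split

attribute [local instance] MatCl.fin MatCl.dec

variable {R : Type u} [CommRing R] {M : Type v} [AddCommGroup M] [Module R M] {Q : QuadraticForm R M} {m : ℕ}
  (E : MatCl Q m)

theorem sum_eq_sum_fib {ι : Type*} [Fintype ι] [DecidableEq ι] (s : ι → ZMod 2) (k : ZMod 2) (F : ι → R)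
    (hF : ∀ p, s p ≠ k → F p = 0) : ∑ p, F p = ∑ p : {p // s p = k}, F p.1 := by
  rw [← Finset.sum_subtype (Finset.univ.filter fun p => s p = k) (by simp) F]
  symm
  apply Finset.sum_filter_of_ne
  intro p _ hp
  by_contra h
  exact hp (hF p h)

theorem mul_block {X Y : Matrix E.idx E.idx R} (hX : X ∈ gmat R E.s 0) (k : ZMod 2) :
    (X * Y).submatrix (fun i : {i // E.s i = k} => i.1) (fun i : {i // E.s i = k} => i.1) =
      X.submatrix (fun i : {i // E.s i = k} => i.1) (fun i : {i // E.s i = k} => i.1) *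
        Y.submatrix (fun i : {i // E.s i = k} => i.1) (fun i : {i // E.s i = k} => i.1) := by
  ext i j
  rw [Matrix.submatrix_apply, Matrix.mul_apply, Matrix.mul_apply,
    sum_eq_sum_fib E.s k (fun p => X i.1 p * Y p j.1)]
  · rfl
  · intro p hp
    rw [hX i.1 p, zero_mul]
    rw [add_zero, i.2]
    exact fun h => hp h.symm

/-- one diagonal block -/
noncomputable def blk (k : ZMod 2) : ↥(CliffordAlgebra.even Q) →ₐ[R] Matrix {i // E.s i = k} {i // E.s i = k} R where
  toFun x := (E.Φ x.1).submatrix (fun i => i.1) (fun i => i.1)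
  map_one' := by
    ext i j
    simp [Matrix.one_apply, Subtype.ext_iff]
  map_mul' x y := by
    change (E.Φ (x.1 * y.1)).submatrix _ _ = _
    rw [map_mul]
    exact mul_block E (E.map_mem x.2) k
  map_zero' := by
    ext i j
    simp
  map_add' x y := by
    ext i j
    simp
  commutes' r := by
    ext i j
    change (E.Φ (algebraMap R _ r)) i.1 j.1 = _
    rw [AlgEquiv.commutes, Matrix.algebraMap_matrix_apply, Matrix.algebraMap_matrix_apply]
    simp [Subtype.ext_iff]

theorem blk_apply (k : ZMod 2) (x : ↥(CliffordAlgebra.even Q)) (i j : {i // E.s i = k}) :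
    blk E k x i j = E.Φ x.1 i.1 j.1 := rfl

/-- both diagonal blocks -/
noncomputable def blks : ↥(CliffordAlgebra.even Q) →ₐ[R]
    Matrix {i // E.s i = 0} {i // E.s i = 0} R × Matrix {i // E.s i = 1} {i // E.s i = 1} R :=
  (blk E 0).prod (blk E 1)

theorem zmod_cases (a : ZMod 2) : a = 0 ∨ a = 1 := by
  revert a; decide

theorem blks_bijective : Function.Bijective (blks E) := by
  constructor
  · rw [injective_iff_map_eq_zero]
    intro x hx
    have h0 : blk E 0 x = 0 := congrArg Prod.fst hx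
    have h1 : blk E 1 x = 0 := congrArg Prod.snd hx
    apply Subtype.ext
    apply E.Φ.injective
    change E.Φ x.1 = E.Φ 0
    rw [map_zero]
    ext i j
    by_cases hij : E.s i = E.s j
    · rcases zmod_cases (E.s i) with h | h
      · exact congrFun (congrFun h0 ⟨i, h⟩) ⟨j, by rw [← hij, h]⟩
      · exact congrFun (congrFun h1 ⟨i, h⟩) ⟨j, by rw [← hij, h]⟩
    · exact E.map_mem x.2 i j (by rwa [add_zero])
  · rintro ⟨Y0, Y1⟩
    let X : Matrix E.idx E.idx R := fun i j =>
      if h : E.s i = 0 ∧ E.s j = 0 then Y0 ⟨i, h.1⟩ ⟨j, h.2⟩ else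
        if h : E.s i = 1 ∧ E.s j = 1 then Y1 ⟨i, h.1⟩ ⟨j, h.2⟩ else 0
    have hX : X ∈ gmat R E.s 0 := by
      intro i j h
      rw [add_zero] at h
      change (if h : E.s i = 0 ∧ E.s j = 0 then Y0 ⟨i, h.1⟩ ⟨j, h.2⟩ else
        if h : E.s i = 1 ∧ E.s j = 1 then Y1 ⟨i, h.1⟩ ⟨j, h.2⟩ else 0) = 0
      rw [dif_neg fun h' => h (h'.1.trans h'.2.symm), dif_neg fun h' => h (h'.1.trans h'.2.symm)]
    have hx : E.Φ.symm X ∈ CliffordAlgebra.even Q := by
      change E.Φ.symm X ∈ evenOdd Q 0
      rw [E.mem_iff, AlgEquiv.apply_symm_apply]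
      exact hX
    refine ⟨⟨E.Φ.symm X, hx⟩, Prod.ext ?_ ?_⟩
    · ext i j
      change E.Φ (E.Φ.symm X) i.1 j.1 = _
      rw [AlgEquiv.apply_symm_apply]
      exact dif_pos ⟨i.2, j.2⟩
    · ext i j
      change E.Φ (E.Φ.symm X) i.1 j.1 = _
      rw [AlgEquiv.apply_symm_apply]
      have h10 : ¬ ((1 : ZMod 2) = 0) := by decide
      change (if h : E.s i.1 = 0 ∧ E.s j.1 = 0 then Y0 ⟨i.1, h.1⟩ ⟨j.1, h.2⟩ else
        if h : E.s i.1 = 1 ∧ E.s j.1 = 1 then Y1 ⟨i.1, h.1⟩ ⟨j.1, h.2⟩ else 0) = _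
      rw [dif_neg fun h' => h10 (i.2.symm.trans h'.1), dif_pos ⟨i.2, j.2⟩]

/-- The even part of a graded matrix Clifford algebra of size `2 ^ m`, `m ≠ 0`. -/
noncomputable def evenEquiv (hm : m ≠ 0) : ↥(CliffordAlgebra.even Q) ≃ₐ[R]
    (Matrix (Fin (2 ^ (m - 1))) (Fin (2 ^ (m - 1))) R × Matrix (Fin (2 ^ (m - 1))) (Fin (2 ^ (m - 1))) R) :=
  (AlgEquiv.ofBijective (blks E) (blks_bijective E)).trans
    (AlgEquiv.prodCongr
      (Matrix.reindexAlgEquiv R R (Fintype.equivFinOfCardEq (E.card_fib hm 0)))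
      (Matrix.reindexAlgEquiv R R (Fintype.equivFinOfCardEq (E.card_fib hm 1))))

/-- The whole Clifford algebra. -/
noncomputable def allEquiv : CliffordAlgebra Q ≃ₐ[R] Matrix (Fin (2 ^ m)) (Fin (2 ^ m)) R :=
  E.Φ.trans (Matrix.reindexAlgEquiv R R (Fintype.equivFinOfCardEq E.card_eq))

/-- Transport of the matrix structure along an isometry between modules in different universes. -/
noncomputable def congr' {M' : Type w} [AddCommGroup M'] [Module R M'] {Q' : QuadraticForm R M'}
    (e : Q.IsometryEquiv Q') : MatCl Q' m where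
  idx := E.idx
  fin := E.fin
  dec := E.dec
  s := E.s
  Φ := (equivOfIsometry e).symm.trans E.Φ
  card_eq := E.card_eq
  card_fib := E.card_fib
  odd v := by
    have : (equivOfIsometry e).symm (ι Q' v) = ι Q (e.symm v) := by
      rw [AlgEquiv.symm_apply_eq, equivOfIsometry_apply]
      change _ = CliffordAlgebra.map _ _
      rw [map_apply_ι]
      congr 1
      exact (e.toLinearEquiv.apply_symm_apply v).symm
    rw [AlgEquiv.trans_apply, this]
    exact E.odd _

end K892.EvenBlocks
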